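import Groth.Agent.Lib.HilbBC13.Basic
import Groth.Agent.Lib.IsoLocusBC13.Basic
import Groth.Prelude.Def_Flatn
import Mathlib.AlgebraicGeometry.ZariskisMainTheorem

/-!
# Morphisms as an open subscheme of the Hilbert scheme of the product (graphs)
-/

set_option autoImplicit false
set_option linter.all false
set_option backward.isDefEq.respectTransparency false

universe u

open CategoryTheory CategoryTheory.Limits AlgebraicGeometry

noncomputable section

namespace GrothLib.HilbMor13

open GrothLib.HilbBC13

theorem ker_subschemeι_toImage {A B : Scheme.{u}} (i : A ⟶ B) [IsClosedImmersion i] :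
    i.ker.subschemeι = (asIso i.toImage).inv ≫ i := by
  rw [Iso.eq_inv_comp]; exact i.toImage_imageι

variable {X Y S : Scheme.{u}} (gX : X ⟶ S) (gY : Y ⟶ S)

/-- The projection `(X ×_S Y) ×_S T ⟶ X ×_S T`. -/
def q (T : Over S) : PicF.XT (pullback.fst gX gY ≫ gX) T ⟶ PicF.XT gX T :=
  pullback.map (pullback.fst gX gY ≫ gX) T.hom gX T.hom (pullback.fst gX gY) (𝟙 _) (𝟙 S) (by simp) (by simp)

@[reassoc]
theorem q_fst (T : Over S) :
    q gX gY T ≫ pullback.fst gX T.hom = pullback.fst _ T.hom ≫ pullback.fst gX gY :=
  pullback.lift_fst _ _ _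

@[reassoc]
theorem q_snd (T : Over S) : q gX gY T ≫ pullback.snd gX T.hom = pullback.snd _ T.hom :=
  (pullback.lift_snd _ _ _).trans (Category.comp_id _)

theorem exists_opens_graph [IsProper gX] [Flat gX] [IsSeparated gY] (H : Over S)
    (Z : FGA.HilbSet (pullback.fst gX gY ≫ gX) H)
    (hH : FGA.HilbRepresentedBy (pullback.fst gX gY ≫ gX) H Z) :
    ∃ H₀ : H.left.Opens, ∀ (T : Over S) [IsLocallyNoetherian T.left],
      (∀ a : (Flatn.morS gX gY).obj (Opposite.op T),
        ∃! g : T ⟶ H, Set.range g.left ⊆ (H₀ : Set H.left) ∧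
          FGA.hilbPull (pullback.fst gX gY ≫ gX) g Z.1 =
            (pullback.lift
              (pullback.lift (pullback.snd T.hom gX) a.left (Over.w a).symm)
              (pullback.fst T.hom gX)
              ((pullback.lift_fst_assoc _ _ _ _).trans pullback.condition.symm)
              : pullback T.hom gX ⟶ PicF.XT (pullback.fst gX gY ≫ gX) T).ker) ∧
      (∀ g : T ⟶ H, Set.range g.left ⊆ (H₀ : Set H.left) →
        ∃! a : (Flatn.morS gX gY).obj (Opposite.op T),
          FGA.hilbPull (pullback.fst gX gY ≫ gX) g Z.1 =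
            (pullback.lift
              (pullback.lift (pullback.snd T.hom gX) a.left (Over.w a).symm)
              (pullback.fst T.hom gX)
              ((pullback.lift_fst_assoc _ _ _ _).trans pullback.condition.symm)
              : pullback T.hom gX ⟶ PicF.XT (pullback.fst gX gY ≫ gX) T).ker) := by
  haveI := hH.1
  let p := pullback.fst gX gY ≫ gX
  let π : Z.1.subscheme ⟶ H.left := Z.1.subschemeι ≫ PicF.XTproj p H
  haveI : IsProper π := Z.2.1
  haveI : Flat π := Z.2.2
  let A : Over H.left := Over.mk π
  let B : Over H.left := Over.mk (pullback.snd gX H.hom)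
  haveI : IsProper A.hom := Z.2.1
  haveI : Flat A.hom := Z.2.2
  haveI : IsProper B.hom := inferInstanceAs (IsProper (pullback.snd gX H.hom))
  let φ : A ⟶ B := Over.homMk (Z.1.subschemeι ≫ q gX gY H) (by
    show (Z.1.subschemeι ≫ q gX gY H) ≫ pullback.snd gX H.hom = π
    rw [Category.assoc, q_snd])
  obtain ⟨U, hU⟩ := GrothLib.IsoLocusBC13.exists_open_isIso_baseChange A B φ
  have hcrit : ∀ (T : Over S) (g : T ⟶ H),
      Set.range g.left ⊆ (U : Set H.left) ↔ IsIso ((FGA.hilbPull p g Z.1).subschemeι ≫ q gX gY T) := by
    intro T g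
    refine (hU T.left g.left).trans ?_
    let f' : pullback π g.left ⟶ pullback (pullback.snd gX H.hom) g.left := ((Over.pullback g.left).map φ).left
    have ef1 : f' ≫ pullback.fst _ g.left = pullback.fst π g.left ≫ (Z.1.subschemeι ≫ q gX gY H) :=
      pullback.lift_fst _ _ _
    have ef2 : f' ≫ pullback.snd _ g.left = pullback.snd π g.left := pullback.lift_snd _ _ _
    rw [show FGA.hilbPull p g Z.1 = Z.1.comap (PicF.XTmap p g) from hilbPull_eq_comap _ _ _,
      ← Scheme.IdealSheafData.comapIso_hom_fst]
    have h1 : IsPullback (pullback.snd (PicF.XTmap p g) Z.1.subschemeι)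
        (pullback.fst (PicF.XTmap p g) Z.1.subschemeι ≫ pullback.snd p T.hom) π g.left :=
      (IsPullback.of_hasPullback _ _).flip.paste_vert (isPullback_XTmap p g)
    have h2 : IsPullback (PicF.XTmap gX g) (pullback.snd gX T.hom) (pullback.snd gX H.hom) g.left :=
      isPullback_XTmap gX g
    have e : (pullback.fst (PicF.XTmap p g) Z.1.subschemeι ≫ q gX gY T) ≫ h2.isoPullback.hom =
        h1.isoPullback.hom ≫ f' := by
      apply pullback.hom_ext
      · simp only [Category.assoc, IsPullback.isoPullback_hom_fst, ef1]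
        rw [h1.isoPullback_hom_fst_assoc, ← pullback.condition_assoc]
        congr 1
        apply pullback.hom_ext
        · simp only [Category.assoc, XTmap_fst, q_fst]
          exact (XTmap_fst_assoc p g _).symm
        · simp only [Category.assoc, XTmap_snd, q_snd, q_snd_assoc]
          exact (XTmap_snd p g).symm
      · simp only [Category.assoc, IsPullback.isoPullback_hom_snd, ef2, q_snd]
        rfl
    show IsIso f' ↔ _
    rw [← isIso_comp_left_iff h1.isoPullback.hom f', ← e, isIso_comp_right_iff, Category.assoc]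
    exact (isIso_comp_left_iff _ _).symm
  refine ⟨U, fun T _ => ⟨fun a => ?_, fun g hg => ?_⟩⟩
  · let Γ : pullback T.hom gX ⟶ PicF.XT p T :=
      pullback.lift
        (pullback.lift (pullback.snd T.hom gX) a.left (Over.w a).symm)
        (pullback.fst T.hom gX)
        ((pullback.lift_fst_assoc _ _ _ _).trans pullback.condition.symm)
    have hΓq : Γ ≫ q gX gY T = (pullbackSymmetry T.hom gX).hom := by
      apply pullback.hom_ext
      · simp only [Category.assoc, q_fst, pullbackSymmetry_hom_comp_fst]
        exact (pullback.lift_fst_assoc _ _ _ _).trans (pullback.lift_fst _ _ _)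
      · simp only [Category.assoc, q_snd, pullbackSymmetry_hom_comp_snd]
        exact pullback.lift_snd _ _ _
    haveI : Mono Γ := by
      haveI : Mono (Γ ≫ q gX gY T) := by rw [hΓq]; infer_instance
      exact mono_of_mono Γ (q gX gY T)
    have hΓp : Γ ≫ pullback.snd p T.hom = pullback.fst T.hom gX := pullback.lift_snd _ _ _
    haveI : IsProper (Γ ≫ pullback.snd p T.hom) := by rw [hΓp]; infer_instance
    haveI : IsProper Γ := IsProper.of_comp Γ (pullback.snd p T.hom)
    haveI : IsClosedImmersion Γ := (IsClosedImmersion.iff_isProper_and_mono Γ).2 ⟨inferInstance, inferInstance⟩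
    have hker : Γ.ker.subschemeι = (asIso Γ.toImage).inv ≫ Γ := ker_subschemeι_toImage Γ
    let Ya : FGA.HilbSet p T := ⟨Γ.ker, by
      constructor
      · rw [hker, Category.assoc, MorphismProperty.cancel_left_of_respectsIso @IsProper]
        show IsProper (Γ ≫ pullback.snd p T.hom)
        infer_instance
      · rw [hker, Category.assoc, MorphismProperty.cancel_left_of_respectsIso @Flat]
        show Flat (Γ ≫ pullback.snd p T.hom)
        rw [hΓp]; infer_instance⟩
    obtain ⟨g, hg, huniq⟩ := hH.2 T Ya
    refine ⟨g, ⟨(hcrit T g).2 ?_, hg⟩, fun g' hg' => huniq g' hg'.2⟩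
    rw [show FGA.hilbPull p g Z.1 = Γ.ker from hg, hker, Category.assoc, hΓq]
    infer_instance
  · haveI hiso := (hcrit T g).1 hg
    let I := FGA.hilbPull p g Z.1
    let e := I.subschemeι ≫ q gX gY T
    haveI : IsIso e := hiso
    let s : pullback T.hom gX ⟶ PicF.XT p T := (pullbackSymmetry T.hom gX).hom ≫ inv e ≫ I.subschemeι
    have hsq : s ≫ q gX gY T = (pullbackSymmetry T.hom gX).hom := by
      simp only [s, Category.assoc]
      rw [show inv e ≫ I.subschemeι ≫ q gX gY T = 𝟙 _ from IsIso.inv_hom_id e, Category.comp_id]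
    have hs1 : (s ≫ pullback.fst p T.hom) ≫ pullback.fst gX gY = pullback.snd T.hom gX := by
      rw [Category.assoc, ← q_fst, reassoc_of% hsq, pullbackSymmetry_hom_comp_fst]
    have hs2 : s ≫ pullback.snd p T.hom = pullback.fst T.hom gX := by
      rw [← q_snd, reassoc_of% hsq, pullbackSymmetry_hom_comp_snd]
    let a₀ : (Flatn.morS gX gY).obj (Opposite.op T) :=
      Over.homMk ((s ≫ pullback.fst p T.hom) ≫ pullback.snd gX gY) (by
        show ((s ≫ pullback.fst p T.hom) ≫ pullback.snd gX gY) ≫ gY = pullback.snd T.hom gX ≫ gX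
        rw [Category.assoc, ← pullback.condition, ← Category.assoc, hs1])
    refine ⟨a₀, ?_, fun a' ha' => ?_⟩
    · show I = _
      have : s = pullback.lift (pullback.lift (pullback.snd T.hom gX) a₀.left (Over.w a₀).symm)
          (pullback.fst T.hom gX) ((pullback.lift_fst_assoc _ _ _ _).trans pullback.condition.symm) := by
        apply pullback.hom_ext
        · apply pullback.hom_ext
          · exact hs1.trans ((congrArg (· ≫ _) (pullback.lift_fst _ _ _)).trans (pullback.lift_fst _ _ _)).symm
          · exact ((congrArg (· ≫ _) (pullback.lift_fst _ _ _)).trans (pullback.lift_snd _ _ _)).symm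
        · exact hs2.trans (pullback.lift_snd _ _ _).symm
      refine Eq.trans ?_ (congrArg Scheme.Hom.ker this)
      show I = (((pullbackSymmetry T.hom gX).hom ≫ inv e) ≫ I.subschemeι).ker
      rw [Scheme.Hom.ker_comp_of_isIso, Scheme.IdealSheafData.ker_subschemeι]
    · let Γ' : pullback T.hom gX ⟶ PicF.XT p T :=
        pullback.lift (pullback.lift (pullback.snd T.hom gX) a'.left (Over.w a').symm)
          (pullback.fst T.hom gX) ((pullback.lift_fst_assoc _ _ _ _).trans pullback.condition.symm)
      have hΓq : Γ' ≫ q gX gY T = (pullbackSymmetry T.hom gX).hom := by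
        apply pullback.hom_ext
        · simp only [Category.assoc, q_fst, pullbackSymmetry_hom_comp_fst]
          exact (pullback.lift_fst_assoc _ _ _ _).trans (pullback.lift_fst _ _ _)
        · simp only [Category.assoc, q_snd, pullbackSymmetry_hom_comp_snd]
          exact pullback.lift_snd _ _ _
      haveI : IsClosedImmersion s := inferInstance
      have hle : s.ker ≤ Γ'.ker := by
        show (((pullbackSymmetry T.hom gX).hom ≫ inv e) ≫ I.subschemeι).ker ≤ _
        rw [Scheme.Hom.ker_comp_of_isIso, Scheme.IdealSheafData.ker_subschemeι]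
        exact le_of_eq ha'
      have hfac := IsClosedImmersion.lift_fac s Γ' hle
      have hid : IsClosedImmersion.lift s Γ' hle = 𝟙 _ := by
        have h1 := congrArg (· ≫ q gX gY T) hfac
        simp only [Category.assoc, hsq, hΓq] at h1
        exact (cancel_mono (pullbackSymmetry T.hom gX).hom).1 (h1.trans (Category.id_comp _).symm)
      rw [hid, Category.id_comp] at hfac
      apply Over.OverMorphism.ext
      show a'.left = (s ≫ pullback.fst p T.hom) ≫ pullback.snd gX gY
      rw [hfac]
      exact ((congrArg (· ≫ _) (pullback.lift_fst _ _ _)).trans (pullback.lift_snd _ _ _)).symm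

end GrothLib.HilbMor13
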